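import Groth.Prelude.Def_W4c1liftfrobW2
import Mathlib.RingTheory.WittVector.Complete
import Mathlib.RingTheory.WittVector.DiscreteValuationRing
import Mathlib.RingTheory.Flat.EquationalCriterion

/-! Algebra over `W₂(k)` for a perfect field `k`. -/

namespace W2LiftLib

open WittVector FrobAlg TensorProduct

universe u v

variable {p : ℕ} [Fact p.Prime]

local notation "𝕎" => WittVector p

section AnyRing

variable {A : Type u} [CommRing A]

/-- `(0, a)`. -/
noncomputable def vs (a : A) : W2 p A :=
  WittVector.truncate 2 (verschiebung (teichmuller p a))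

@[simp] theorem vs_zero (a : A) : (vs a : W2 p A).coeff 0 = 0 := by
  rw [vs, coeff_truncate]; exact verschiebung_coeff_zero _

@[simp] theorem vs_one (a : A) : (vs a : W2 p A).coeff 1 = a := by
  rw [vs, coeff_truncate]
  exact (verschiebung_coeff_succ _ 0).trans (teichmuller_coeff_zero _ _)

theorem eq_vs {x : W2 p A} (h : x.coeff 0 = 0) : x = vs (x.coeff 1) :=
  TruncatedWittVector.ext fun i => by fin_cases i <;> simp [h]

theorem vs_add (a b : A) : (vs a + vs b : W2 p A) = vs (a + b) := by
  rw [show (vs a + vs b : W2 p A) = WittVector.truncate 2 (verschiebung (teichmuller p a + teichmuller p b)) by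
    simp [vs, map_add]]
  refine TruncatedWittVector.ext fun i => ?_
  rw [coeff_truncate]
  fin_cases i
  · exact (verschiebung_coeff_zero _).trans (vs_zero (p := p) (a + b)).symm
  · simp only [Fin.mk_one, Fin.isValue, vs_one]
    refine (verschiebung_coeff_succ _ 0).trans ?_
    rw [WittVector.add_coeff_zero, teichmuller_coeff_zero, teichmuller_coeff_zero]

theorem mul_vs [CharP A p] (y : W2 p A) (a : A) : y * vs a = vs (y.coeff 0 ^ p * a) := by
  obtain ⟨Y, rfl⟩ := WittVector.truncate_surjective p 2 A y
  conv_lhs => rw [mul_comm, vs, ← map_mul, ← verschiebung_mul_frobenius]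
  refine TruncatedWittVector.ext fun i => ?_
  rw [coeff_truncate]
  fin_cases i
  · simpa using verschiebung_coeff_zero _
  · simp only [Fin.mk_one, Fin.isValue, vs_one]
    refine (verschiebung_coeff_succ _ 0).trans ?_
    rw [WittVector.mul_coeff_zero, teichmuller_coeff_zero, coeff_frobenius_charP, coeff_truncate]
    exact mul_comm _ _

theorem natCast_eq_vs [CharP A p] : (p : W2 p A) = vs 1 := by
  rw [← map_natCast (WittVector.truncate 2 : 𝕎 A →+* W2 p A)]
  refine TruncatedWittVector.ext fun i => ?_
  rw [coeff_truncate]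
  fin_cases i
  · simpa using coeff_p_zero
  · simpa using coeff_p_one

end AnyRing

section Field

variable {k : Type u} [Field k] [CharP k p]

theorem natCast_sq : (p : W2 p k) * (p : W2 p k) = 0 := by
  conv_lhs => rw [natCast_eq_vs]; rw [mul_vs, vs_zero]
  rw [zero_pow (Fact.out : p.Prime).ne_zero, zero_mul]
  exact TruncatedWittVector.ext fun i => by fin_cases i <;> simp [vs_zero, vs_one, TruncatedWittVector.coeff_zero]

theorem natCast_ne_zero : (p : W2 p k) ≠ 0 := fun h => by
  have := congrArg (fun x => TruncatedWittVector.coeff 1 x) (natCast_eq_vs.symm.trans h)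
  simp at this

variable [PerfectRing k p]

theorem dichotomy (x : W2 p k) : IsUnit x ∨ ∃ y, x = y * (p : W2 p k) := by
  obtain ⟨X, rfl⟩ := WittVector.truncate_surjective p 2 k x
  by_cases h : X.coeff 0 = 0
  · have : X ∈ Ideal.span {(p : 𝕎 k)} := by
      rw [← WittVector.ker_constantCoeff]; exact h
    obtain ⟨Y, rfl⟩ := Ideal.mem_span_singleton'.mp this
    exact Or.inr ⟨WittVector.truncate 2 Y, by rw [map_mul, map_natCast]⟩
  · exact Or.inl ((isUnit_of_coeff_zero_ne_zero X h).map _)

theorem ker_res : RingHom.ker (res p k) = Ideal.span {(p : W2 p k)} := by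
  apply le_antisymm
  · intro x hx
    rcases dichotomy x with h | ⟨y, rfl⟩
    · exact absurd hx ((h.map (res p k)).ne_zero)
    · exact Ideal.mem_span_singleton'.mpr ⟨y, rfl⟩
  · rw [Ideal.span_singleton_le_iff_mem, RingHom.mem_ker, map_natCast, CharP.cast_eq_zero]

theorem flat_iff (M : Type v) [AddCommGroup M] [Module (W2 p k) M] :
    Module.Flat (W2 p k) M ↔ ∀ m : M, (p : W2 p k) • m = 0 → ∃ m' : M, m = (p : W2 p k) • m' := by
  constructor
  · intro _ m hm
    obtain ⟨_, a, y, hy, ha⟩ := Module.Flat.isTrivialRelation_of_sum_smul_eq_zero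
      (f := fun _ : Fin 1 => (p : W2 p k)) (x := fun _ => m) (by simpa using hm)
    have hmem : ∀ j, ∃ b, a 0 j = b * (p : W2 p k) := fun j => by
      rcases dichotomy (a 0 j) with h | h
      · have h2 : (p : W2 p k) * a 0 j = 0 := by simpa using ha j
        exact absurd ((h.mul_left_eq_zero).mp h2) natCast_ne_zero
      · exact h
    choose b hb using hmem
    refine ⟨∑ j, b j • y j, ?_⟩
    rw [Finset.smul_sum]
    refine (hy 0).trans (Finset.sum_congr rfl fun j _ => ?_)
    rw [hb j, smul_smul, mul_comm]
  · intro h
    rw [Module.Flat.iff_rTensor_injective']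
    intro I
    rw [injective_iff_map_eq_zero]
    by_cases htop : I = ⊤
    · subst htop
      exact fun t ht => (LinearEquiv.rTensor M (Submodule.topEquiv : (⊤ : Ideal (W2 p k)) ≃ₗ[_] _)).injective
        (ht.trans (map_zero _).symm)
    have hI : ∀ x ∈ I, ∃ y, x = y * (p : W2 p k) := fun x hx =>
      (dichotomy x).resolve_left fun hu => htop (I.eq_top_of_isUnit_mem hx hu)
    by_cases hp : (p : W2 p k) ∈ I
    · have hsurj : ∀ t : I ⊗[W2 p k] M, ∃ m, t = (⟨_, hp⟩ : I) ⊗ₜ[W2 p k] m := by
        intro t
        induction t using TensorProduct.induction_on with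
        | zero => exact ⟨0, (tmul_zero _ _).symm⟩
        | tmul x m =>
          obtain ⟨y, hy⟩ := hI x x.2
          refine ⟨y • m, ?_⟩
          rw [← smul_tmul, show y • (⟨_, hp⟩ : I) = x from Subtype.ext hy.symm]
        | add a b ha hb =>
          obtain ⟨m₁, rfl⟩ := ha; obtain ⟨m₂, rfl⟩ := hb
          exact ⟨m₁ + m₂, (tmul_add _ _ _).symm⟩
      intro t ht
      obtain ⟨m, rfl⟩ := hsurj t
      have hm : (p : W2 p k) • m = 0 := by simpa using congrArg (TensorProduct.lid (W2 p k) M) ht
      obtain ⟨m', rfl⟩ := h m hm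
      rw [← smul_tmul, show (p : W2 p k) • (⟨_, hp⟩ : I) = 0 from Subtype.ext natCast_sq, zero_tmul]
    · have hbot : ∀ x ∈ I, x = 0 := fun x hx => by
        obtain ⟨y, rfl⟩ := hI x hx
        rcases dichotomy y with hu | ⟨z, rfl⟩
        · obtain ⟨w, rfl⟩ := hu
          exact absurd (by simpa using I.mul_mem_left (↑w⁻¹ : W2 p k) hx) hp
        · rw [mul_assoc, natCast_sq, mul_zero]
      intro t _
      induction t using TensorProduct.induction_on with
      | zero => rfl
      | tmul x m => rw [show x = 0 from Subtype.ext (hbot x x.2), zero_tmul]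
      | add a b ha hb => rw [ha (by
          have : ∀ q : I ⊗[W2 p k] M, q = 0 := fun q => by
            induction q using TensorProduct.induction_on with
            | zero => rfl
            | tmul x m => rw [show x = 0 from Subtype.ext (hbot x x.2), zero_tmul]
            | add a b ha hb => rw [ha, hb, add_zero]
          rw [this a, map_zero]), hb (by
          have : ∀ q : I ⊗[W2 p k] M, q = 0 := fun q => by
            induction q using TensorProduct.induction_on with
            | zero => rfl
            | tmul x m => rw [show x = 0 from Subtype.ext (hbot x x.2), zero_tmul]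
            | add a b ha hb => rw [ha, hb, add_zero]
          rw [this b, map_zero]), add_zero]

variable {B : Type v} [CommRing B] (ι : W2 p k →+* B)

theorem ringHom_flat_iff : ι.Flat ↔ ∀ b : B, (p : B) * b = 0 → ∃ c : B, b = (p : B) * c := by
  letI := ι.toAlgebra
  show Module.Flat (W2 p k) B ↔ _
  rw [flat_iff]
  simp only [Algebra.smul_def, map_natCast]

end Field

end W2LiftLib
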