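import Groth.Agent.W2LiftL.Basic
import Mathlib.RingTheory.EssentialFiniteness
import Mathlib.RingTheory.Flat.FaithfullyFlat.Algebra
import Mathlib.RingTheory.Polynomial.Basic
import Mathlib.RingTheory.FiniteType

/-! Descending liftings to `W₂(k)` along retractions. -/

namespace W2LiftLib

open FrobAlg

universe u

variable {p : ℕ} [Fact p.Prime] {k : Type u} [Field k] [CharP k p] [PerfectRing k p]
variable {B B' : Type u} [CommRing B] [CommRing B'] [Algebra k B] {ιB : W2 p k →+* B'} {πB : B' →+* B}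

theorem lift_ker (hB : IsLift p k B B' ιB πB) (x : B') : πB x = 0 ↔ ∃ y, x = (p : B') * y := by
  rw [← RingHom.mem_ker, hB.ker_eq, ker_res, Ideal.map_span, Set.image_singleton, map_natCast,
    Ideal.mem_span_singleton]
  exact ⟨fun ⟨y, h⟩ => ⟨y, h⟩, fun ⟨y, h⟩ => ⟨y, h⟩⟩

theorem lift_natCast (hB : IsLift p k B B' ιB πB) : πB (p : B') = 0 := (lift_ker hB _).mpr ⟨1, (mul_one _).symm⟩

theorem lift_div (hB : IsLift p k B B' ιB πB) {x y : B'} (h : (p : B') * x = p * y) : πB x = πB y := by
  obtain ⟨c, hc⟩ := (ringHom_flat_iff ιB).mp hB.flat (x - y) (by rw [mul_sub, h, sub_self])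
  rw [← sub_eq_zero, ← map_sub, hc, map_mul, lift_natCast hB, zero_mul]

theorem lift_sq (ι : W2 p k →+* B') : (p : B') * (p : B') = 0 := by
  rw [← map_natCast ι, ← map_mul, natCast_sq, map_zero]

theorem lift_unit (hB : IsLift p k B B' ιB πB) {x : B'} (h : IsUnit (πB x)) : IsUnit x := by
  obtain ⟨w, hw⟩ := isUnit_iff_exists_inv.mp h
  obtain ⟨z, rfl⟩ := hB.surj w
  obtain ⟨c, hc⟩ := (lift_ker hB (x * z - 1)).mp (by rw [map_sub, map_mul, hw, map_one, sub_self])
  refine isUnit_iff_exists_inv.mpr ⟨z * (1 - p * c), ?_⟩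
  linear_combination (1 - (p : B') * c) * hc - c ^ 2 * lift_sq ιB

variable {A : Type u} [CommRing A] [Algebra k A] [Algebra A B] [IsScalarTower k A B]

/-- A lifting of a polynomial-type cover of `A`, mapped to `B'`. -/
structure Cover (A : Type u) [CommRing A] [Algebra k A] [Algebra A B] (πB : B' →+* B) (ιB : W2 p k →+* B') where
  P : Type u
  ring : CommRing P
  ι : W2 p k →+* P
  π : P →+* A
  ψ : P →+* B'
  surj : Function.Surjective π
  comm : π.comp ι = (algebraMap k A).comp (res p k)
  tors : ∀ x : P, (p : P) * x = 0 → ∃ y, x = (p : P) * y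
  ψι : ψ.comp ι = ιB
  ψπ : ∀ x, πB (ψ x) = algebraMap A B (π x)

attribute [instance] Cover.ring

variable (hB : IsLift p k B B' ιB πB)

include hB in
theorem liftable_of_cover (C : Cover A πB ιB) (Q : Submodule A B) (h1 : (1 : B) ∈ Q) (r : Q →ₗ[A] A)
    (hr : r ⟨1, h1⟩ = 1) (hQ : ∀ f, C.π f = 0 → ∀ b', C.ψ f = (p : B') * b' → πB b' ∈ Q) :
    IsW2Liftable p k A := by
  have hr' : ∀ (a : A) (h : algebraMap A B a ∈ Q), r ⟨algebraMap A B a, h⟩ = a := fun a h => by
    have : (⟨algebraMap A B a, h⟩ : Q) = a • ⟨1, h1⟩ := Subtype.ext (Algebra.algebraMap_eq_smul_one a)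
    rw [this, map_smul, hr, smul_eq_mul, mul_one]
  have hdiv : ∀ f, C.π f = 0 → ∃ b', C.ψ f = (p : B') * b' := fun f hf =>
    (lift_ker hB _).mp (by rw [C.ψπ, hf, map_zero])
  let I : Ideal C.P :=
    { carrier := {f | C.π f = 0 ∧ ∀ b' (h : πB b' ∈ Q), C.ψ f = (p : B') * b' → r ⟨πB b', h⟩ = 0}
      zero_mem' := ⟨map_zero _, fun b' h hb => by
        have : (⟨πB b', h⟩ : Q) = 0 := Subtype.ext (by
          show πB b' = 0
          rw [← map_zero πB]
          exact lift_div hB (by rw [← hb, map_zero, mul_zero]))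
        rw [this, map_zero]⟩
      add_mem' := by
        rintro f g ⟨hf, hf'⟩ ⟨hg, hg'⟩
        refine ⟨by rw [map_add, hf, hg, add_zero], fun b' h hb => ?_⟩
        obtain ⟨bf, hbf⟩ := hdiv f hf
        obtain ⟨bg, hbg⟩ := hdiv g hg
        have : (⟨πB b', h⟩ : Q) = ⟨πB bf, hQ f hf bf hbf⟩ + ⟨πB bg, hQ g hg bg hbg⟩ := Subtype.ext (by
          show πB b' = πB bf + πB bg
          rw [← map_add]
          exact lift_div hB (by rw [← hb, map_add, hbf, hbg, mul_add]))
        rw [this, map_add, hf' _ _ hbf, hg' _ _ hbg, add_zero]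
      smul_mem' := by
        rintro g f ⟨hf, hf'⟩
        refine ⟨by rw [smul_eq_mul, map_mul, hf, mul_zero], fun b' h hb => ?_⟩
        obtain ⟨bf, hbf⟩ := hdiv f hf
        have : (⟨πB b', h⟩ : Q) = C.π g • ⟨πB bf, hQ f hf bf hbf⟩ := Subtype.ext (by
          show πB b' = C.π g • πB bf
          rw [Algebra.smul_def, ← C.ψπ, ← map_mul]
          exact lift_div hB (by rw [← hb, smul_eq_mul, map_mul, hbf, mul_left_comm]))
        rw [this, map_smul, hf' _ _ hbf, smul_zero] }
  have hI : ∀ f ∈ I, C.π f = 0 := fun f hf => hf.1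
  let π' : C.P ⧸ I →+* A := Ideal.Quotient.lift I C.π hI
  have hred : ∀ f, C.π f = 0 → ∃ g, f - (p : C.P) * g ∈ I := by
    intro f hf
    obtain ⟨bf, hbf⟩ := hdiv f hf
    obtain ⟨g, hg⟩ := C.surj (r ⟨πB bf, hQ f hf bf hbf⟩)
    have hp : C.π (p : C.P) = 0 := by
      rw [← map_natCast C.ι, ← RingHom.comp_apply, C.comm, RingHom.comp_apply, map_natCast, CharP.cast_eq_zero,
        map_zero]
    refine ⟨g, by rw [map_sub, map_mul, hp, hf, zero_mul, sub_zero], fun b' h hb => ?_⟩
    have hmem : algebraMap A B (C.π g) ∈ Q := by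
      rw [Algebra.algebraMap_eq_smul_one]; exact Q.smul_mem _ h1
    have : (⟨πB b', h⟩ : Q) = ⟨πB bf, hQ f hf bf hbf⟩ - ⟨algebraMap A B (C.π g), hmem⟩ := Subtype.ext (by
      show πB b' = πB bf - algebraMap A B (C.π g)
      rw [← C.ψπ, ← map_sub]
      exact lift_div hB (by rw [← hb, map_sub, map_mul, map_natCast, hbf, mul_sub]))
    rw [this, map_sub, hr', hg, sub_self]
  refine ⟨C.P ⧸ I, inferInstance, (Ideal.Quotient.mk I).comp C.ι, π', (ringHom_flat_iff _).mpr ?_, ?_, ?_, ?_⟩
  · intro x hx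
    obtain ⟨f, rfl⟩ := Ideal.Quotient.mk_surjective x
    rw [← map_natCast (Ideal.Quotient.mk I), ← map_mul, Ideal.Quotient.eq_zero_iff_mem] at hx
    have hf : C.π f = 0 := by
      have hmem : algebraMap A B (C.π f) ∈ Q := by
        rw [Algebra.algebraMap_eq_smul_one]; exact Q.smul_mem _ h1
      have h0 := hx.2 (C.ψ f) (by rw [C.ψπ]; exact hmem) (by rw [map_mul, map_natCast])
      rw [show (⟨πB (C.ψ f), _⟩ : Q) = ⟨algebraMap A B (C.π f), hmem⟩ from Subtype.ext (C.ψπ f), hr'] at h0
      exact h0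
    obtain ⟨g, hg⟩ := hred f hf
    refine ⟨Ideal.Quotient.mk I g, ?_⟩
    rw [← map_natCast (Ideal.Quotient.mk I), ← map_mul, Ideal.Quotient.eq]
    exact hg
  · intro a
    obtain ⟨f, rfl⟩ := C.surj a
    exact ⟨Ideal.Quotient.mk I f, rfl⟩
  · rw [ker_res, Ideal.map_span, Set.image_singleton, map_natCast]
    apply le_antisymm
    · intro x hx
      obtain ⟨f, rfl⟩ := Ideal.Quotient.mk_surjective x
      obtain ⟨g, hg⟩ := hred f hx
      refine Ideal.mem_span_singleton'.mpr ⟨Ideal.Quotient.mk I g, ?_⟩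
      rw [mul_comm, ← map_natCast (Ideal.Quotient.mk I), ← map_mul, eq_comm, Ideal.Quotient.eq]
      exact hg
    · rw [Ideal.span_singleton_le_iff_mem, RingHom.mem_ker, ← map_natCast (Ideal.Quotient.mk I)]
      show C.π (p : C.P) = 0
      rw [← map_natCast C.ι, ← RingHom.comp_apply, C.comm, RingHom.comp_apply, map_natCast, CharP.cast_eq_zero,
        map_zero]
  · rw [← C.comm]
    exact RingHom.ext fun w => rfl

/-- A multiple of `p` is killed by `p` only if divisible. -/
theorem mv_tors {σ : Type*} (x : MvPolynomial σ (W2 p k)) (hx : (p : MvPolynomial σ (W2 p k)) * x = 0) :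
    ∃ y, x = (p : MvPolynomial σ (W2 p k)) * y := by
  have : MvPolynomial.C (p : W2 p k) ∣ x := by
    rw [MvPolynomial.C_dvd_iff_dvd_coeff]
    intro m
    rcases dichotomy (MvPolynomial.coeff m x) with h | ⟨y, hy⟩
    · have h2 := congrArg (MvPolynomial.coeff m) hx
      rw [← map_natCast MvPolynomial.C, MvPolynomial.coeff_C_mul, MvPolynomial.coeff_zero] at h2
      exact absurd (h.mul_left_eq_zero.mp h2) natCast_ne_zero
    · exact ⟨y, by rw [hy, mul_comm]⟩
  rw [map_natCast] at this
  exact this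

include hB in
theorem liftable_of_retraction (r : B →ₗ[A] A) (hr : r 1 = 1) : IsW2Liftable p k A := by
  have hres : ∀ w, πB (ιB w) = algebraMap A B (algebraMap k A (res p k w)) := fun w => by
    rw [← IsScalarTower.algebraMap_apply, ← RingHom.comp_apply, hB.comm]
    rfl
  choose s hs using fun a : A => hB.surj (algebraMap A B a)
  refine liftable_of_cover hB
    { P := MvPolynomial A (W2 p k)
      ring := inferInstance
      ι := MvPolynomial.C
      π := MvPolynomial.eval₂Hom ((algebraMap k A).comp (res p k)) id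
      ψ := MvPolynomial.eval₂Hom ιB s
      surj := fun a => ⟨MvPolynomial.X a, by simp⟩
      comm := MvPolynomial.eval₂Hom_comp_C _ _
      tors := fun x hx => mv_tors x hx
      ψι := MvPolynomial.eval₂Hom_comp_C _ _
      ψπ := fun x => RingHom.congr_fun (show πB.comp (MvPolynomial.eval₂Hom ιB s) =
          (algebraMap A B).comp (MvPolynomial.eval₂Hom ((algebraMap k A).comp (res p k)) id) from
        MvPolynomial.ringHom_ext (fun w => by simpa using hres w) (fun a => by simpa using hs a)) x }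
    ⊤ Submodule.mem_top (r.comp Submodule.topEquiv.toLinearMap) hr (fun _ _ _ _ => Submodule.mem_top)

include hB in
theorem liftable_of_faithfullyFlat [Algebra.EssFiniteType k A] [Module.FaithfullyFlat A B] :
    IsW2Liftable p k A := by
  classical
  haveI : IsNoetherianRing (W2 p k) :=
    isNoetherianRing_of_surjective (WittVector p k) _ (WittVector.truncate 2) (WittVector.truncate_surjective p 2 k)
  haveI : IsNoetherianRing A := Algebra.EssFiniteType.isNoetherianRing k A
  let S₀ := Algebra.EssFiniteType.subalgebra k A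
  obtain ⟨n, φ, hφ⟩ := Algebra.FiniteType.iff_quotient_mvPolynomial''.mp (inferInstance : Algebra.FiniteType k S₀)
  let x : Fin n → A := fun i => (φ (MvPolynomial.X i) : A)
  let π₀ : MvPolynomial (Fin n) (W2 p k) →+* A := MvPolynomial.eval₂Hom ((algebraMap k A).comp (res p k)) x
  have hres : ∀ w, πB (ιB w) = algebraMap A B (algebraMap k A (res p k w)) := fun w => by
    rw [← IsScalarTower.algebraMap_apply, ← RingHom.comp_apply, hB.comm]
    rfl
  choose s hs using fun i => hB.surj (algebraMap A B (x i))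
  let ψ₀ : MvPolynomial (Fin n) (W2 p k) →+* B' := MvPolynomial.eval₂Hom ιB s
  have hψ₀ : ∀ f, πB (ψ₀ f) = algebraMap A B (π₀ f) := fun f => RingHom.congr_fun (show πB.comp ψ₀ = (algebraMap A B).comp π₀ from
    MvPolynomial.ringHom_ext (fun w => by simpa [ψ₀, π₀] using hres w) (fun a => by simpa [ψ₀, π₀] using hs a)) f
  let N : Submonoid (MvPolynomial (Fin n) (W2 p k)) := (IsUnit.submonoid A).comap π₀
  have hS₀ : ∀ a : S₀, ∃ f, π₀ f = (a : A) := by
    intro a
    obtain ⟨g, rfl⟩ := hφ a
    have hres' : Function.Surjective (res p k) := fun c =>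
      ⟨WittVector.truncate 2 (WittVector.teichmuller p c), by rw [res_truncate, WittVector.teichmuller_coeff_zero]⟩
    obtain ⟨f, rfl⟩ := MvPolynomial.map_surjective (res p k) hres' g
    refine ⟨f, RingHom.congr_fun (show π₀ = (S₀.val.toRingHom.comp φ.toRingHom).comp (MvPolynomial.map (res p k)) from
      MvPolynomial.ringHom_ext (fun w => ?_) (fun i => by simp [π₀, x])) f⟩
    simp [π₀]
  have hunit : ∀ f : N, IsUnit (π₀ f) := fun f => f.2
  let π : Localization N →+* A := IsLocalization.lift hunit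
  have hψunit : ∀ f : N, IsUnit (ψ₀ f) := fun f => lift_unit hB (by rw [hψ₀]; exact (hunit f).map _)
  let ψ : Localization N →+* B' := IsLocalization.lift hψunit
  let C : Cover A πB ιB :=
    { P := Localization N
      ring := inferInstance
      ι := (algebraMap (MvPolynomial (Fin n) (W2 p k)) (Localization N)).comp MvPolynomial.C
      π := π
      ψ := ψ
      surj := fun a => by
        obtain ⟨⟨y, ⟨m, hm⟩⟩, hym⟩ := IsLocalization.surj (Algebra.EssFiniteType.submonoid k A) a
        obtain ⟨f, hf⟩ := hS₀ y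
        obtain ⟨g, hg⟩ := hS₀ m
        have hgu : g ∈ N := by
          show IsUnit (π₀ g)
          rw [hg]; exact hm
        refine ⟨IsLocalization.mk' _ f ⟨g, hgu⟩, ?_⟩
        rw [IsLocalization.lift_mk'_spec, hf]
        show (y : A) = π₀ g * a
        rw [hg, mul_comm]
        exact hym.symm
      comm := RingHom.ext fun w => by simp [π, π₀]
      tors := fun z hz => by
        obtain ⟨f, t, rfl⟩ := IsLocalization.exists_mk'_eq N z
        rw [← map_natCast (algebraMap (MvPolynomial (Fin n) (W2 p k)) (Localization N)), IsLocalization.mul_mk'_eq_mk'_of_mul,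
          IsLocalization.mk'_eq_zero_iff] at hz
        obtain ⟨m, hm⟩ := hz
        obtain ⟨g, hg⟩ := mv_tors ((m : MvPolynomial (Fin n) (W2 p k)) * f) (by rw [mul_left_comm]; exact hm)
        refine ⟨IsLocalization.mk' _ g (m * t), ?_⟩
        rw [← map_natCast (algebraMap (MvPolynomial (Fin n) (W2 p k)) (Localization N)), IsLocalization.mul_mk'_eq_mk'_of_mul,
          IsLocalization.mk'_eq_iff_eq]
        congr 1
        rw [Submonoid.coe_mul, ← hg]
        ring
      ψι := RingHom.ext fun w => by simp [ψ, ψ₀]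
      ψπ := fun z => RingHom.congr_fun (show πB.comp ψ = (algebraMap A B).comp π from
        IsLocalization.ringHom_ext N (RingHom.ext fun f => by simp [ψ, π, hψ₀])) z }
  haveI : IsNoetherianRing (Localization N) := IsLocalization.isNoetherianRing N _ inferInstance
  obtain ⟨T, hT⟩ := (isNoetherianRing_iff_ideal_fg (Localization N)).mp inferInstance (RingHom.ker π)
  have hTker : ∀ t : T, π t.1 = 0 := fun t => by
    have : (t : Localization N) ∈ RingHom.ker π := hT ▸ Ideal.subset_span t.2
    exact this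
  choose b hb using fun t : T => (lift_ker hB (ψ t.1)).mp (by
    have := C.ψπ t.1
    simp only [C] at this
    rw [this, hTker t, map_zero])
  let Q : Submodule A B := Submodule.span A (insert 1 (Set.range fun t => πB (b t)))
  have h1 : (1 : B) ∈ Q := Submodule.subset_span (Set.mem_insert _ _)
  have hQ : ∀ f, π f = 0 → ∀ b', ψ f = (p : B') * b' → πB b' ∈ Q := by
    intro f hf
    have hmem : f ∈ Ideal.span (T : Set (Localization N)) := hT.symm ▸ (show f ∈ RingHom.ker π from hf)
    suffices H : ∃ b', ψ f = (p : B') * b' ∧ πB b' ∈ Q by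
      intro b' hb'
      obtain ⟨b'', h2, h3⟩ := H
      rwa [lift_div hB (hb'.symm.trans h2)]
    induction hmem using Submodule.span_induction with
    | mem t ht => exact ⟨b ⟨t, ht⟩, hb ⟨t, ht⟩, Submodule.subset_span (Set.mem_insert_of_mem _ ⟨_, rfl⟩)⟩
    | zero => exact ⟨0, by simp, by simp⟩
    | add f g hf' hg' ih ih' =>
      obtain ⟨b1, e1, m1⟩ := ih (by
        have : f ∈ RingHom.ker π := hT ▸ hf'
        exact this)
      obtain ⟨b2, e2, m2⟩ := ih' (by
        have : g ∈ RingHom.ker π := hT ▸ hg'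
        exact this)
      exact ⟨b1 + b2, by rw [map_add, e1, e2, mul_add], by rw [map_add]; exact Q.add_mem m1 m2⟩
    | smul c f hf' ih =>
      obtain ⟨b1, e1, m1⟩ := ih (by
        have : f ∈ RingHom.ker π := hT ▸ hf'
        exact this)
      refine ⟨ψ c * b1, by rw [smul_eq_mul, map_mul, e1, mul_left_comm], ?_⟩
      rw [map_mul, show πB (ψ c) = algebraMap A B (π c) from C.ψπ c, ← Algebra.smul_def]
      exact Q.smul_mem _ m1
  haveI : Module.Finite A Q := Module.Finite.iff_fg.mpr
    (Submodule.fg_span ((Set.finite_range _).insert 1))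
  haveI : Module.FinitePresentation A Q := Module.finitePresentation_of_finite A Q
  obtain ⟨m, a, y, hay⟩ := Module.Flat.exists_factorization_of_finitePresentation Q.subtype
  let 𝔞 : Ideal A := Ideal.span (Set.range fun i => a ⟨1, h1⟩ i)
  have h𝔞 : 𝔞 = ⊤ := by
    rw [← Ideal.comap_map_eq_self_of_faithfullyFlat (B := B) 𝔞]
    refine (Ideal.eq_top_iff_one _).mpr ?_
    rw [Ideal.mem_comap, map_one, show (1 : B) = y (a ⟨1, h1⟩) from LinearMap.congr_fun hay ⟨1, h1⟩,
      show a ⟨1, h1⟩ = ∑ i, a ⟨1, h1⟩ i • Finsupp.single i (1 : A) from Finsupp.ext fun j => by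
        simp [Finsupp.single_apply, Finset.sum_ite_eq'], map_sum]
    refine Ideal.sum_mem _ fun i _ => ?_
    rw [map_smul, Algebra.smul_def]
    exact Ideal.mul_mem_right _ _ (Ideal.mem_map_of_mem _ (Ideal.subset_span ⟨i, rfl⟩))
  obtain ⟨c, hc⟩ := (Ideal.mem_span_range_iff_exists_fun).mp (h𝔞 ▸ Submodule.mem_top : (1 : A) ∈ 𝔞)
  refine liftable_of_cover hB C Q h1 (∑ i, c i • (Finsupp.lapply i).comp a) ?_ hQ
  simpa [LinearMap.sum_apply] using hc

end W2LiftLib
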